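import Groth.Prelude.Def_W4c6intromoduliQuartic
import Mathlib.Tactic.Ring
import Mathlib.Tactic.LinearCombination
import Mathlib.Tactic.FinCases

/-! Brackets of a split binary quartic. -/

open Polynomial W4c6intromoduli

namespace Groth.Agent.Quartic.Basic

universe u
variable {R : Type u} [CommRing R] (la mu : Fin 4 → R)

/-- bracket -/
def br (i j : Fin 4) : R := la i * mu j - la j * mu i

theorem rootPoly_eq :
    rootPoly la mu =
      C (mu 0 * mu 1 * mu 2 * mu 3) +
      C (-(la 0 * mu 1 * mu 2 * mu 3 + mu 0 * la 1 * mu 2 * mu 3 + mu 0 * mu 1 * la 2 * mu 3 + mu 0 * mu 1 * mu 2 * la 3)) * X +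
      C (la 0 * la 1 * mu 2 * mu 3 + la 0 * mu 1 * la 2 * mu 3 + la 0 * mu 1 * mu 2 * la 3 +
        mu 0 * la 1 * la 2 * mu 3 + mu 0 * la 1 * mu 2 * la 3 + mu 0 * mu 1 * la 2 * la 3) * X ^ 2 +
      C (-(mu 0 * la 1 * la 2 * la 3 + la 0 * mu 1 * la 2 * la 3 + la 0 * la 1 * mu 2 * la 3 + la 0 * la 1 * la 2 * mu 3)) * X ^ 3 +
      C (la 0 * la 1 * la 2 * la 3) * X ^ 4 := by
  simp only [rootPoly, Fin.prod_univ_four, map_add, map_mul, map_neg]
  ring

theorem coef0 : coef la mu 0 = mu 0 * mu 1 * mu 2 * mu 3 := by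
  rw [coef, rootPoly_eq]; simp only [coeff_add, coeff_C_mul, coeff_C, coeff_X, coeff_X_pow]; simp

theorem coef1 : coef la mu 1 = -(la 0 * mu 1 * mu 2 * mu 3 + mu 0 * la 1 * mu 2 * mu 3 + mu 0 * mu 1 * la 2 * mu 3 + mu 0 * mu 1 * mu 2 * la 3) := by
  rw [coef, rootPoly_eq]; simp only [coeff_add, coeff_C_mul, coeff_C, coeff_X, coeff_X_pow]; simp

theorem coef2 : coef la mu 2 = la 0 * la 1 * mu 2 * mu 3 + la 0 * mu 1 * la 2 * mu 3 + la 0 * mu 1 * mu 2 * la 3 +
        mu 0 * la 1 * la 2 * mu 3 + mu 0 * la 1 * mu 2 * la 3 + mu 0 * mu 1 * la 2 * la 3 := by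
  rw [coef, rootPoly_eq]; simp only [coeff_add, coeff_C_mul, coeff_C, coeff_X, coeff_X_pow]; simp

theorem coef3 : coef la mu 3 = -(mu 0 * la 1 * la 2 * la 3 + la 0 * mu 1 * la 2 * la 3 + la 0 * la 1 * mu 2 * la 3 + la 0 * la 1 * la 2 * mu 3) := by
  rw [coef, rootPoly_eq]; simp only [coeff_add, coeff_C_mul, coeff_C, coeff_X, coeff_X_pow]; simp

theorem coef4 : coef la mu 4 = la 0 * la 1 * la 2 * la 3 := by
  rw [coef, rootPoly_eq]; simp only [coeff_add, coeff_C_mul, coeff_C, coeff_X, coeff_X_pow]; simp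

/-- `u = [01][23]` -/
def pu : R := br la mu 0 1 * br la mu 2 3
/-- `v = -[02][13]` -/
def pv : R := -(br la mu 0 2 * br la mu 1 3)
/-- `w = [03][12]` -/
def pw : R := br la mu 0 3 * br la mu 1 2

theorem plucker : pu la mu + pv la mu + pw la mu = 0 := by simp only [pu, pv, pw, br]; ring

theorem invI_eq : invI (coef la mu) = -(pu la mu * pv la mu + pv la mu * pw la mu + pw la mu * pu la mu) := by
  simp only [invI, coef0, coef1, coef2, coef3, coef4, pu, pv, pw, br]; ring

theorem invJ_eq : invJ (coef la mu) = (pu la mu - pv la mu) * (pv la mu - pw la mu) * (pw la mu - pu la mu) := by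
  simp only [invJ, coef0, coef1, coef2, coef3, coef4, pu, pv, pw, br]; ring

theorem disc_eq : disc la mu = (pu la mu * pv la mu * pw la mu) ^ 2 := by
  rw [disc, show ((Finset.univ : Finset (Fin 4 × Fin 4)).filter fun p => p.1 < p.2) =
    {(0, 1), (0, 2), (0, 3), (1, 2), (1, 3), (2, 3)} by decide]
  simp only [pu, pv, pw, br]
  rw [Finset.prod_insert (by decide), Finset.prod_insert (by decide), Finset.prod_insert (by decide),
    Finset.prod_insert (by decide), Finset.prod_insert (by decide), Finset.prod_singleton]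
  ring

end Groth.Agent.Quartic.Basic
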